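import Mathlib

/-!
# S5714: the two regimes (numerical part, helper107)

`n` dimension, `q ≥ 2` real, `l = log |T| ≤ C n² log q`.

* `num_unb` : `n` large, all `q`;
* `num_bdd` : `n < n₀`, `q` large.
-/

set_option autoImplicit false

namespace Cfsg.Agent.H107.Rg

open Real

/-- powers of the logarithm -/
theorem log_pow_le (m : ℕ) {j : ℕ} (hj : 1 ≤ j) {q : ℝ} (hq : 1 ≤ q) :
    (1 + log q) ^ m ≤ (j : ℝ) ^ m * m.factorial * exp 1 * q ^ (1 / (j : ℝ)) := by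
  have hj0 : (0 : ℝ) < j := by exact_mod_cast hj
  have hj1 : (1 : ℝ) ≤ j := by exact_mod_cast hj
  have hl := log_nonneg hq
  have hy : 0 ≤ (1 + log q) / j := by positivity
  have h1 := pow_div_factorial_le_exp _ hy m
  have hf : (0 : ℝ) < m.factorial := by exact_mod_cast m.factorial_pos
  rw [div_le_iff₀ hf] at h1
  have h2 : exp ((1 + log q) / j) ≤ exp 1 * q ^ (1 / (j : ℝ)) := by
    rw [rpow_def_of_pos (by linarith), ← exp_add, exp_le_exp, add_div]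
    have : (1 : ℝ) / j ≤ 1 := by rw [div_le_one hj0]; exact hj1
    have h3 : log q / j = log q * (1 / j) := by ring
    linarith
  calc (1 + log q) ^ m = (j : ℝ) ^ m * ((1 + log q) / j) ^ m := by
        rw [← mul_pow, mul_div_cancel₀ _ hj0.ne']
    _ ≤ (j : ℝ) ^ m * (exp ((1 + log q) / j) * m.factorial) := by gcongr
    _ ≤ (j : ℝ) ^ m * ((exp 1 * q ^ (1 / (j : ℝ))) * m.factorial) := by gcongr
    _ = _ := by ring

theorem one_le_B {B q : ℝ} (hB : 1 ≤ B) (hq : 1 ≤ q) : 1 ≤ B * (1 + log q) := by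
  have hl := log_nonneg hq
  nlinarith

theorem cube_le (a : ℕ) {B q l : ℝ} (hB : 1 ≤ B) (hq : 1 ≤ q) (hl0 : 0 ≤ l) (hl : l ≤ B * (1 + log q)) :
    (l ^ a + 3) ^ 3 ≤ 64 * (B ^ (3 * a) * (1 + log q) ^ (3 * a)) := by
  have h1 := one_le_B hB hq
  have h2 : 1 ≤ (B * (1 + log q)) ^ a := one_le_pow₀ h1
  have h3 : l ^ a ≤ (B * (1 + log q)) ^ a := pow_le_pow_left₀ hl0 hl a
  have h4 : l ^ a + 3 ≤ 4 * (B * (1 + log q)) ^ a := by linarith
  have h5 : 0 ≤ l ^ a + 3 := by positivity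
  calc (l ^ a + 3) ^ 3 ≤ (4 * (B * (1 + log q)) ^ a) ^ 3 := pow_le_pow_left₀ h5 h4 3
    _ = _ := by rw [← mul_pow, mul_pow, ← pow_mul, mul_comm a 3]; norm_num

theorem sq_le (a : ℕ) {B q l : ℝ} (hl0 : 0 ≤ l) (hl : l ≤ B * (1 + log q)) :
    (l ^ a) ^ 2 ≤ B ^ (2 * a) * (1 + log q) ^ (2 * a) := by
  rw [← mul_pow, ← pow_mul, mul_comm a 2]
  exact pow_le_pow_left₀ hl0 hl _

theorem le_B {C q l : ℝ} {n : ℕ} (hC : 0 ≤ C) (hq : 1 ≤ q) (hl : l ≤ C * (n : ℝ) ^ 2 * log q) :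
    l ≤ ((1 + C) * (n : ℝ) ^ 2) * (1 + log q) := by
  have h0 := log_nonneg hq
  have h1 : (0 : ℝ) ≤ (n : ℝ) ^ 2 := by positivity
  refine hl.trans ?_
  gcongr <;> linarith

/-- eventually small -/
theorem ev_small (m : ℕ) (K : ℝ) {r : ℝ} (hr0 : 0 < r) (hr : r < 1) {δ : ℝ} (hδ : 0 < δ) :
    ∃ N : ℕ, ∀ j : ℕ, N ≤ j → K * (((j : ℝ) + 1) ^ m * r ^ j) ≤ δ := by
  have h1 := tendsto_pow_const_mul_const_pow_of_abs_lt_one m (r := r) (by rw [abs_of_pos hr0]; exact hr)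
  have h2 := (h1.const_mul (K / r)).comp (Filter.tendsto_add_atTop_nat 1)
  rw [mul_zero] at h2
  obtain ⟨N, hN⟩ := Filter.eventually_atTop.1 (h2.eventually (gt_mem_nhds hδ))
  refine ⟨N, fun j hj => ?_⟩
  have h3 := (hN j hj).le
  simp only [Function.comp_apply] at h3
  push_cast at h3
  have h4 : K / r * (((j : ℝ) + 1) ^ m * r ^ (j + 1)) = K * (((j : ℝ) + 1) ^ m * r ^ j) := by
    rw [pow_succ]
    field_simp
  linarith

set_option maxHeartbeats 1600000 in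
/-- **Unbounded rank.** -/
theorem num_unb (a : ℕ) {A C W δ : ℝ} (hA : 0 ≤ A) (hC : 0 ≤ C) (hW : 0 ≤ W) (hδ : 0 < δ) :
    ∃ n0 : ℕ, ∀ n : ℕ, n0 ≤ n → ∃ L s0 : ℕ, 1 ≤ L ∧ 16 * L ≤ n ∧ 2 * L + 32 ≤ n ∧ 0 < s0 ∧ A * L ≤ δ * s0 ∧
      ∀ q l : ℝ, 2 ≤ q → 0 ≤ l → l ≤ C * (n : ℝ) ^ 2 * log q →
        A * (l ^ a + 3) ^ 3 * ((n : ℝ) + 1) ^ 3 * q ^ (-(L : ℝ) / 16) ≤ δ ∧
        ∀ r : ℕ, n ≤ 4 * r + 4 → q ^ (2 * s0 ^ 2) * (W * (l ^ a) ^ 2) ≤ q ^ r := by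
  obtain ⟨M0, hM0⟩ := exists_nat_ge (A / δ)
  set K1 : ℝ := A * 64 * (1 + C) ^ (3 * a) * ((3 * a).factorial * exp 1) with hK1
  set K2 : ℝ := W * (1 + C) ^ (2 * a) * ((2 * a).factorial * exp 1) with hK2
  have hK1' : 0 ≤ K1 := by positivity
  have hK2' : 0 ≤ K2 := by positivity
  set ρ : ℝ := (2 : ℝ) ^ (-(1 : ℝ) / 16) with hρ
  have hρ0 : 0 < ρ := by positivity
  have hρ1 : ρ < 1 := rpow_lt_one_of_one_lt_of_neg (by norm_num) (by norm_num)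
  obtain ⟨N1, hN1⟩ := ev_small (4 * (6 * a + 3)) (K1 * 2) hρ0 hρ1 hδ
  obtain ⟨N2, hN2⟩ := ev_small (4 * a) (K2 * 8 ^ (4 * a)) (r := 1 / 2) (by norm_num) (by norm_num) (δ := 1) one_pos
  set t0 : ℕ := max (max ((N1 + 16) ^ 2) (32 * M0 ^ 2 + 32)) (64 * (N2 + 1)) with ht0
  refine ⟨t0 ^ 2, fun n hn => ?_⟩
  set t := Nat.sqrt n with ht
  set L := Nat.sqrt t with hL
  set s0 := Nat.sqrt (n / 32) with hs0
  have ht1 : t0 ≤ t := Nat.le_sqrt'.2 hn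
  have ht2 : (N1 + 16) ^ 2 ≤ t := ((le_max_left _ _).trans (le_max_left _ _)).trans ht1
  have ht3 : 32 * M0 ^ 2 + 32 ≤ t := ((le_max_right _ _).trans (le_max_left _ _)).trans ht1
  have ht4 : 64 * (N2 + 1) ≤ t := (le_max_right _ _).trans ht1
  have hLN : N1 + 16 ≤ L := Nat.le_sqrt'.2 ht2
  have htn : t * t ≤ n := Nat.sqrt_le n
  have hLt : L * L ≤ t := Nat.sqrt_le t
  have htn' : n < (t + 1) * (t + 1) := Nat.lt_succ_sqrt n
  have hLt' : t < (L + 1) * (L + 1) := Nat.lt_succ_sqrt t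
  have hs1 : s0 * s0 ≤ n / 32 := Nat.sqrt_le _
  have hs2 : 32 * (s0 * s0) ≤ n := by
    have := Nat.div_mul_le_self n 32
    omega
  have hLL : 16 * L ≤ t := by nlinarith
  have h1t : 64 ≤ t := by omega
  have hn64 : 64 * t ≤ n := by nlinarith
  have hML : M0 * L ≤ s0 := by
    rw [hs0, Nat.le_sqrt, Nat.le_div_iff_mul_le (by norm_num)]
    calc M0 * L * (M0 * L) * 32 = 32 * M0 ^ 2 * (L * L) := by ring
      _ ≤ 32 * M0 ^ 2 * t := by gcongr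
      _ ≤ t * t := by gcongr; omega
      _ ≤ n := htn
  have hs0pos : 0 < s0 := by
    rw [hs0, Nat.sqrt_pos]
    have : 64 * 64 ≤ n := by nlinarith
    omega
  refine ⟨L, s0, by omega, by omega, by omega, hs0pos, ?_, ?_⟩
  · have h1 : A ≤ δ * M0 := by
      rw [div_le_iff₀ hδ] at hM0
      linarith
    have h2 : ((M0 * L : ℕ) : ℝ) ≤ s0 := by exact_mod_cast hML
    push_cast at h2
    calc A * L ≤ δ * M0 * L := by gcongr
      _ = δ * (M0 * L) := by ring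
      _ ≤ δ * s0 := by gcongr
  · intro q l hq hl0 hl
    have hq1 : 1 ≤ q := by linarith
    have hq0 : 0 < q := by linarith
    have hn1 : (1 : ℝ) ≤ n := by
      have : 1 ≤ n := by omega
      exact_mod_cast this
    have hB : 1 ≤ (1 + C) * (n : ℝ) ^ 2 := by nlinarith [pow_le_pow_left₀ zero_le_one hn1 2]
    have hlB := le_B hC hq1 hl
    have hexp : ∀ m : ℕ, (1 + log q) ^ m ≤ (m.factorial * exp 1) * q := by
      intro m
      have := log_pow_le m (j := 1) le_rfl hq1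
      simpa using this
    constructor
    · have h1 := cube_le a hB hq1 hl0 hlB
      have h2 : (n : ℝ) + 1 ≤ ((L : ℝ) + 1) ^ 4 := by
        have h3 : n + 1 ≤ (L + 1) ^ 4 := by
          calc n + 1 ≤ (t + 1) * (t + 1) := htn'
            _ ≤ ((L + 1) * (L + 1)) * ((L + 1) * (L + 1)) := Nat.mul_le_mul hLt' hLt'
            _ = (L + 1) ^ 4 := by ring
        exact_mod_cast h3
      have h3 : q ^ (-(L : ℝ) / 16) * q ≤ 2 * ρ ^ L := by
        have e1 : q ^ (-(L : ℝ) / 16) * q = q ^ (1 - (L : ℝ) / 16) := by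
          rw [← rpow_add_one hq0.ne']
          congr 1
          ring
        have e2 : (2 : ℝ) * ρ ^ L = 2 ^ (1 - (L : ℝ) / 16) := by
          rw [hρ, ← rpow_natCast, ← rpow_mul (by norm_num), show (1 : ℝ) - L / 16 = 1 + -1 / 16 * L by ring,
            rpow_add (by norm_num), rpow_one]
        rw [e1, e2]
        refine rpow_le_rpow_of_nonpos (by norm_num) hq ?_
        have : (16 : ℝ) ≤ L := by
          have : 16 ≤ L := by omega
          exact_mod_cast this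
        linarith
      have h4 := hN1 L (by omega)
      have hn0 : (0 : ℝ) ≤ n := by linarith
      have hlog : 0 ≤ 1 + log q := by have := log_nonneg hq1; linarith
      have hqq : 0 ≤ q ^ (-(L : ℝ) / 16) := by positivity
      calc A * (l ^ a + 3) ^ 3 * ((n : ℝ) + 1) ^ 3 * q ^ (-(L : ℝ) / 16)
          ≤ A * (64 * (((1 + C) * (n : ℝ) ^ 2) ^ (3 * a) * (1 + log q) ^ (3 * a))) * ((n : ℝ) + 1) ^ 3 *
            q ^ (-(L : ℝ) / 16) := by gcongr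
        _ ≤ A * (64 * (((1 + C) * (n : ℝ) ^ 2) ^ (3 * a) * (((3 * a).factorial * exp 1) * q))) * ((n : ℝ) + 1) ^ 3 *
            q ^ (-(L : ℝ) / 16) := by gcongr; exact hexp _
        _ = K1 * ((n : ℝ) ^ (6 * a) * ((n : ℝ) + 1) ^ 3) * (q ^ (-(L : ℝ) / 16) * q) := by
            rw [hK1, mul_pow, ← pow_mul, show 2 * (3 * a) = 6 * a by ring]
            ring
        _ ≤ K1 * (((n : ℝ) + 1) ^ (6 * a) * ((n : ℝ) + 1) ^ 3) * (2 * ρ ^ L) := by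
            gcongr
            linarith
        _ = K1 * ((n : ℝ) + 1) ^ (6 * a + 3) * (2 * ρ ^ L) := by rw [pow_add]
        _ ≤ K1 * (((L : ℝ) + 1) ^ 4) ^ (6 * a + 3) * (2 * ρ ^ L) := by gcongr
        _ = K1 * 2 * (((L : ℝ) + 1) ^ (4 * (6 * a + 3)) * ρ ^ L) := by rw [← pow_mul]; ring
        _ ≤ δ := h4
    · intro r hr
      have h1 := sq_le a (B := (1 + C) * (n : ℝ) ^ 2) hl0 hlB
      set j := n / 8 with hj
      have hjn : n < 8 * (j + 1) := by omega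
      have hjN : N2 ≤ j := by omega
      have h2 := hN2 j hjN
      have h3 : K2 * (n : ℝ) ^ (4 * a) ≤ 2 ^ j := by
        have h5 : (n : ℝ) ≤ 8 * ((j : ℝ) + 1) := by
          have : n ≤ 8 * (j + 1) := hjn.le
          exact_mod_cast this
        have h6 : K2 * (n : ℝ) ^ (4 * a) ≤ K2 * 8 ^ (4 * a) * ((j : ℝ) + 1) ^ (4 * a) := by
          calc K2 * (n : ℝ) ^ (4 * a) ≤ K2 * (8 * ((j : ℝ) + 1)) ^ (4 * a) := by gcongr
            _ = _ := by rw [mul_pow]; ring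
        have h7 : K2 * 8 ^ (4 * a) * ((j : ℝ) + 1) ^ (4 * a) ≤ 2 ^ j := by
          have h8 : K2 * 8 ^ (4 * a) * ((j : ℝ) + 1) ^ (4 * a) * (1 / 2) ^ j ≤ 1 := by
            rw [mul_assoc]; exact h2
          rw [one_div, inv_pow, ← div_eq_mul_inv, div_le_one (by positivity)] at h8
          exact h8
        exact h6.trans h7
      obtain ⟨e, he⟩ : ∃ e, r = 2 * s0 ^ 2 + 1 + j + e := by
        have h9 : 2 * s0 ^ 2 + 1 + j ≤ r := by
          have : 16 * (2 * s0 ^ 2) ≤ n := by rw [pow_two]; omega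
          omega
        exact ⟨_, (Nat.add_sub_cancel' h9).symm⟩
      have hlog : 0 ≤ 1 + log q := by have := log_nonneg hq1; linarith
      calc q ^ (2 * s0 ^ 2) * (W * (l ^ a) ^ 2)
          ≤ q ^ (2 * s0 ^ 2) * (W * (((1 + C) * (n : ℝ) ^ 2) ^ (2 * a) * (1 + log q) ^ (2 * a))) := by gcongr
        _ ≤ q ^ (2 * s0 ^ 2) * (W * (((1 + C) * (n : ℝ) ^ 2) ^ (2 * a) * (((2 * a).factorial * exp 1) * q))) := by
            gcongr; exact hexp _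
        _ = q ^ (2 * s0 ^ 2 + 1) * (K2 * (n : ℝ) ^ (4 * a)) := by
            rw [hK2, mul_pow, ← pow_mul, show 2 * (2 * a) = 4 * a by ring, pow_succ]
            ring
        _ ≤ q ^ (2 * s0 ^ 2 + 1) * 2 ^ j := by gcongr
        _ ≤ q ^ (2 * s0 ^ 2 + 1) * q ^ j := by gcongr
        _ = q ^ (2 * s0 ^ 2 + 1 + j) := by rw [← pow_add]
        _ ≤ q ^ r := pow_le_pow_right₀ hq1 (by omega)

/-- **Bounded rank.** -/
theorem num_bdd (a n0 : ℕ) {A C W δ : ℝ} (hA : 0 ≤ A) (hC : 0 ≤ C) (hW : 0 ≤ W) (hδ : 0 < δ) :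
    ∃ q0 : ℕ, ∀ n : ℕ, n < n0 → ∀ q l : ℝ, (q0 : ℝ) ≤ q → 2 ≤ q → 0 ≤ l → l ≤ C * (n : ℝ) ^ 2 * log q →
        A * (l ^ a + 3) ^ 3 * ((n : ℝ) + 1) ^ 4 * q ^ (-(1 : ℝ) / 16) ≤ δ ∧ W * (l ^ a) ^ 2 ≤ q := by
  set B : ℝ := (1 + C) * ((n0 : ℝ) + 1) ^ 2 with hBdef
  set K1 : ℝ := A * 64 * B ^ (3 * a) * ((32 : ℝ) ^ (3 * a) * (3 * a).factorial * exp 1) * ((n0 : ℝ) + 1) ^ 4 with hK1
  set K2 : ℝ := W * B ^ (2 * a) * ((32 : ℝ) ^ (2 * a) * (2 * a).factorial * exp 1) with hK2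
  have hB0 : 0 ≤ B := by positivity
  have hK1' : 0 ≤ K1 := by positivity
  have hK2' : 0 ≤ K2 := by positivity
  obtain ⟨q1, hq1⟩ := exists_nat_ge ((K1 / δ) ^ (32 : ℝ))
  obtain ⟨q2, hq2⟩ := exists_nat_ge (K2 ^ (2 : ℝ))
  refine ⟨max q1 q2, fun n hn q l hq0 hq hl0 hl => ?_⟩
  have hqq1 : (K1 / δ) ^ (32 : ℝ) ≤ q := hq1.trans ((by exact_mod_cast le_max_left q1 q2 : (q1 : ℝ) ≤ ((max q1 q2 : ℕ) : ℝ)).trans hq0)
  have hqq2 : K2 ^ (2 : ℝ) ≤ q := hq2.trans ((by exact_mod_cast le_max_right q1 q2 : (q2 : ℝ) ≤ ((max q1 q2 : ℕ) : ℝ)).trans hq0)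
  have h1q : 1 ≤ q := by linarith
  have h0q : 0 < q := by linarith
  have hnn : (n : ℝ) ≤ n0 := by exact_mod_cast hn.le
  have hlog0 := log_nonneg h1q
  have hlog : 0 ≤ 1 + log q := by linarith
  have hn0 : (0 : ℝ) ≤ n := by positivity
  have hB1 : 1 ≤ B := by
    have h1 : (1 : ℝ) ≤ ((n0 : ℝ) + 1) ^ 2 := by
      have : (0 : ℝ) ≤ n0 := by positivity
      nlinarith
    rw [hBdef]
    nlinarith
  have hlB : l ≤ B * (1 + log q) := by
    refine hl.trans ?_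
    rw [hBdef]
    have h2 : (n : ℝ) ^ 2 ≤ ((n0 : ℝ) + 1) ^ 2 := pow_le_pow_left₀ hn0 (by linarith) 2
    gcongr <;> linarith
  have hexp : ∀ m : ℕ, (1 + log q) ^ m ≤ ((32 : ℝ) ^ m * m.factorial * exp 1) * q ^ (1 / (32 : ℝ)) := by
    intro m
    have := log_pow_le m (j := 32) (by norm_num) h1q
    exact_mod_cast this
  constructor
  · have h1 := cube_le a hB1 h1q hl0 hlB
    have h3 : q ^ (-(1 : ℝ) / 16) * q ^ (1 / (32 : ℝ)) = (q ^ (1 / (32 : ℝ)))⁻¹ := by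
      rw [← rpow_add h0q, ← rpow_neg h0q.le]
      norm_num
    have h4 : K1 / δ ≤ q ^ (1 / (32 : ℝ)) := by
      have h5 := rpow_le_rpow (by positivity) hqq1 (by norm_num : (0 : ℝ) ≤ 1 / 32)
      rwa [← rpow_mul (by positivity), show (32 : ℝ) * (1 / 32) = 1 by norm_num, rpow_one] at h5
    have hpos : 0 < q ^ (1 / (32 : ℝ)) := by positivity
    calc A * (l ^ a + 3) ^ 3 * ((n : ℝ) + 1) ^ 4 * q ^ (-(1 : ℝ) / 16)
        ≤ A * (64 * (B ^ (3 * a) * (1 + log q) ^ (3 * a))) * ((n0 : ℝ) + 1) ^ 4 * q ^ (-(1 : ℝ) / 16) := by gcongr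
      _ ≤ A * (64 * (B ^ (3 * a) * (((32 : ℝ) ^ (3 * a) * (3 * a).factorial * exp 1) * q ^ (1 / (32 : ℝ))))) *
          ((n0 : ℝ) + 1) ^ 4 * q ^ (-(1 : ℝ) / 16) := by gcongr; exact hexp _
      _ = K1 * (q ^ (-(1 : ℝ) / 16) * q ^ (1 / (32 : ℝ))) := by rw [hK1]; ring
      _ = K1 / q ^ (1 / (32 : ℝ)) := by rw [h3]; rfl
      _ ≤ δ := by
          rw [div_le_iff₀ hpos]
          rw [div_le_iff₀ hδ] at h4
          linarith
  · have h1 := sq_le a (B := B) hl0 hlB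
    have h4 : K2 ≤ q ^ (1 / (2 : ℝ)) := by
      have h5 := rpow_le_rpow (by positivity) hqq2 (by norm_num : (0 : ℝ) ≤ 1 / 2)
      rwa [← rpow_mul (by positivity), show (2 : ℝ) * (1 / 2) = 1 by norm_num, rpow_one] at h5
    have h6 : q ^ (1 / (32 : ℝ)) ≤ q ^ (1 / (2 : ℝ)) := rpow_le_rpow_of_exponent_le h1q (by norm_num)
    have h7 : q ^ (1 / (2 : ℝ)) * q ^ (1 / (2 : ℝ)) = q := by
      rw [← rpow_add h0q]; norm_num
    calc W * (l ^ a) ^ 2 ≤ W * (B ^ (2 * a) * (1 + log q) ^ (2 * a)) := by gcongr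
      _ ≤ W * (B ^ (2 * a) * (((32 : ℝ) ^ (2 * a) * (2 * a).factorial * exp 1) * q ^ (1 / (32 : ℝ)))) := by
          gcongr; exact hexp _
      _ = K2 * q ^ (1 / (32 : ℝ)) := by rw [hK2]; ring
      _ ≤ q ^ (1 / (2 : ℝ)) * q ^ (1 / (2 : ℝ)) := by gcongr
      _ = q := h7

end Cfsg.Agent.H107.Rg
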