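import Mathlib
import Cfsg.Agent.H107.Rg.Num
import Cfsg.Agent.H141.Rg.Defs

/-!
# S5714: from the estimates for single groups to `FamP` (helper107)

`Dat T n r q C A c` : the estimates for `T` (`n` the dimension, `r` with `d² / k(X) ≥ q ^ r / c`);
`famP_of` : uniform data give `FamP`.
-/

set_option autoImplicit false

namespace Cfsg.Agent.H107.Rg

open Cfsg Cfsg.Agent.OrdDiv Cfsg.Agent.H436 Cfsg.Agent.H141.Rg

/-- the two estimates for the group `T` -/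
structure Dat (T : Type) [Group T] [Finite T] (n r : ℕ) (q C A c : ℝ) : Prop where
  two_le : 2 ≤ q
  le_r : n ≤ 4 * r + 4
  lg_le : lg T ≤ C * (n : ℝ) ^ 2 * Real.log q
  bdd : ∀ (k : ℕ) (w ρ : ℝ), 1 ≤ k → 0 < w → 0 < ρ → c * w ≤ ρ ^ 2 * q →
    (badN T k ρ : ℝ) ≤ (A * ((k : ℝ) + 1) ^ 3 * ((n : ℝ) + 1) ^ 4 * q ^ (-(1 : ℝ) / 16) + 1 / w) * Nat.card T
  unb : ∀ (k L s0 : ℕ) (w ρ : ℝ), 1 ≤ k → 0 < w → 0 < ρ → 1 ≤ L → 16 * L ≤ n → 2 * L + 32 ≤ n → 0 < s0 →
    q ^ (2 * s0 ^ 2) * (c * w) ≤ ρ ^ 2 * q ^ r →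
    (badN T k ρ : ℝ) ≤ (A * ((k : ℝ) + 1) ^ 3 * ((n : ℝ) + 1) ^ 3 * q ^ (-(L : ℝ) / 16) + A * L / s0 + 1 / w) * Nat.card T

theorem badN_mono {T : Type*} [Group T] [Finite T] {k k' ρ : ℝ} (h : k ≤ k') : badN T k ρ ≤ badN T k' ρ :=
  Nat.card_le_card_of_injective (fun y => ⟨y.1, by
    obtain ⟨m, h1, h2, h3⟩ := y.2
    exact ⟨m, h1, h2.trans h, h3⟩⟩) fun _ _ h => Subtype.ext (congrArg (fun y => y.1) h)

/-- **Uniform data give `FamP`.** -/
theorem famP_of {P : Grp → Prop} {C A c : ℝ} (hC : 0 ≤ C) (hA : 0 ≤ A) (hc : 0 ≤ c) (N : ℕ)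
    (h : ∀ (g : Grp) (T : Type) [Group T] [Finite T] [IsSimpleGroup T], IsNamed g T → P g → N ≤ Nat.card T →
      ∃ (n r : ℕ) (q : ℝ), Dat T n r q C A c) : FamP P := by
  intro a ε hε
  have hw : 0 < 2 / ε := by positivity
  obtain ⟨n0, h1⟩ := num_unb a (W := c * (2 / ε)) hA hC (by positivity) (show 0 < ε / 4 by positivity)
  obtain ⟨q0, h2⟩ := num_bdd a n0 (W := c * (2 / ε)) hA hC (by positivity) (show 0 < ε / 2 by positivity)
  obtain ⟨D, hD⟩ := exists_nat_gt (Real.exp (C * (n0 : ℝ) ^ 2 * Real.log q0))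
  refine ⟨max (max D 3) N, fun g T _ _ _ hT hg hDT => ?_⟩
  obtain ⟨n, r, q, d⟩ := h g T hT hg ((le_max_right _ _).trans hDT)
  have hcard3 : 3 ≤ Nat.card T := ((le_max_right _ _).trans (le_max_left _ _)).trans hDT
  have hcardD : D ≤ Nat.card T := ((le_max_left _ _).trans (le_max_left _ _)).trans hDT
  have hTpos : (0 : ℝ) < Nat.card T := by
    have : 0 < Nat.card T := by omega
    exact_mod_cast this
  set l := lg T with hl
  have hl0 : 0 < l := Real.log_pos (by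
    have : 1 < Nat.card T := by omega
    exact_mod_cast this)
  have hla : 0 < l ^ a := by positivity
  set k := ⌈l ^ a⌉₊ with hk
  have hk1 : 1 ≤ k := Nat.one_le_ceil_iff.2 hla
  have hk2 : (k : ℝ) ≤ l ^ a + 1 := (Nat.ceil_lt_add_one hla.le).le
  have hk3 : (k : ℝ) + 1 ≤ l ^ a + 3 := by linarith
  have hρ : 0 < (l ^ a)⁻¹ := by positivity
  have hmono : (badN T (l ^ a) ((l ^ a)⁻¹) : ℝ) ≤ badN T (k : ℝ) ((l ^ a)⁻¹) := by
    exact_mod_cast badN_mono (Nat.le_ceil _)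
  have hq0 : (0 : ℝ) < q := by have := d.two_le; linarith
  refine hmono.trans ?_
  have h1w : 1 / (2 / ε) = ε / 2 := by field_simp
  rcases le_or_gt n0 n with hn | hn
  · obtain ⟨L, s0, e1, e2, e3, e4, e5, e6⟩ := h1 n hn
    obtain ⟨e7, e8⟩ := e6 q l d.two_le hl0.le d.lg_le
    have e9 := e8 r d.le_r
    have hs0 : (0 : ℝ) < s0 := by exact_mod_cast e4
    refine (d.unb k L s0 (2 / ε) _ hk1 hw hρ e1 e2 e3 e4 ?_).trans ?_
    · rw [inv_pow, ← div_eq_inv_mul, le_div_iff₀ (by positivity)]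
      rw [mul_assoc]
      exact e9
    · refine mul_le_mul_of_nonneg_right ?_ hTpos.le
      have e10 : A * L / s0 ≤ ε / 4 := by
        rw [div_le_iff₀ hs0]; exact e5
      have e11 : A * ((k : ℝ) + 1) ^ 3 * ((n : ℝ) + 1) ^ 3 * q ^ (-(L : ℝ) / 16) ≤ ε / 4 := by
        refine le_trans ?_ e7
        gcongr
      rw [h1w]
      linarith
  · have hqq : (q0 : ℝ) ≤ q := by
      by_contra hcon
      push Not at hcon
      have e1 : l ≤ C * (n0 : ℝ) ^ 2 * Real.log q0 := by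
        refine d.lg_le.trans ?_
        have e2 : (n : ℝ) ≤ n0 := by exact_mod_cast hn.le
        have e3 : 0 ≤ Real.log q := Real.log_nonneg (by have := d.two_le; linarith)
        have e4 : Real.log q ≤ Real.log q0 := Real.log_le_log hq0 hcon.le
        gcongr
      have e5 : Real.exp (C * (n0 : ℝ) ^ 2 * Real.log q0) < Real.exp l := by
        rw [hl, lg, Real.exp_log hTpos]
        exact hD.trans_le (by exact_mod_cast hcardD)
      rw [Real.exp_lt_exp] at e5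
      linarith
    obtain ⟨e1, e2⟩ := h2 n hn q l hqq d.two_le hl0.le d.lg_le
    refine (d.bdd k (2 / ε) _ hk1 hw hρ ?_).trans ?_
    · rw [inv_pow, ← div_eq_inv_mul, le_div_iff₀ (by positivity)]
      exact e2
    · refine mul_le_mul_of_nonneg_right ?_ hTpos.le
      have e11 : A * ((k : ℝ) + 1) ^ 3 * ((n : ℝ) + 1) ^ 4 * q ^ (-(1 : ℝ) / 16) ≤ ε / 2 := by
        refine le_trans ?_ e1
        gcongr
      rw [h1w]
      linarith

end Cfsg.Agent.H107.Rg
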