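import Mathlib
import Cfsg.Agent.H141.Rg.Defs
import Cfsg.Agent.H141.Rg.Act
import Cfsg.Agent.H119.SUBound
import Cfsg.Agent.S2481
import Cfsg.Agent.ClassicalGeometry.PSUAutMain

/-!
# S5714, the row `PSU`: input for the two regimes (helper107)

* `deg_le` : the degrees of the nontrivial irreducible characters of `PSU_n(q)` are at least `q ^ (n - 1) / 2`;
* `classes_le`, `card_le` : class number of `SU_n(q)`, orders;
* `index_trick` : passage from `GU` to `SU`.
-/

set_option autoImplicit false

namespace Cfsg.Agent.H107.Rg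

open Cfsg Cfsg.Agent.H141.Rg Module Matrix
open Cfsg.Agent.LieClassical.HermBasic Cfsg.Agent.LieClassical.HermSiegel
open Cfsg.Agent.ClassicalGeometry.PSUAutCount Cfsg.Agent.ClassicalGeometry.PSUAutBasic
open Cfsg.Agent.ClassicalGeometry.PSUAutSylow

/-! ### The index trick -/

/-- `X` a subgroup (or subset) of `Y`, `Z` scalars -/
theorem index_trick {X Y Z : Type*} [Finite X] [Finite Y] [Finite Z] (f : X → Y) (s : Z → Y → Y) (N : ℕ)
    (hfib : ∀ g : Y, Nat.card {p : X × Z // s p.2 (f p.1) = g} ≤ N) (P : Y → Prop)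
    (hP : ∀ z x, P (f x) → P (s z (f x))) (hYX : Nat.card Y ≤ Nat.card Z * Nat.card X) :
    Nat.card {x : X // P (f x)} * Nat.card Y ≤ N * Nat.card {y : Y // P y} * Nat.card X := by
  classical
  have h1 : Nat.card {x : X // P (f x)} * Nat.card Z ≤ N * Nat.card {y : Y // P y} := by
    let φ : {x : X // P (f x)} × Z → {y : Y // P y} := fun p => ⟨s p.2 (f p.1.1), hP _ _ p.1.2⟩
    have _ := Fintype.ofFinite ({x : X // P (f x)} × Z)
    have _ := Fintype.ofFinite {y : Y // P y}
    have h2 : Fintype.card ({x : X // P (f x)} × Z) ≤ N * Fintype.card {y : Y // P y} := by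
      rw [← Finset.card_univ, ← Finset.card_univ]
      refine Finset.card_le_mul_card_image_of_maps_to (f := φ) (fun _ _ => Finset.mem_univ _) N fun g _ => ?_
      refine le_trans ?_ (hfib g.1)
      rw [← Fintype.card_subtype, ← Nat.card_eq_fintype_card]
      refine Nat.card_le_card_of_injective
        (fun p : {p : {x : X // P (f x)} × Z // φ p = g} =>
          (⟨(p.1.1.1, p.1.2), congrArg Subtype.val p.2⟩ : {p : X × Z // s p.2 (f p.1) = g.1})) ?_
      intro p p' hpp
      have e := congrArg Subtype.val hpp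
      simp only [Prod.mk.injEq] at e
      exact Subtype.ext (Prod.ext (Subtype.ext e.1) e.2)
    rwa [← Nat.card_eq_fintype_card, ← Nat.card_eq_fintype_card, Nat.card_prod] at h2
  calc Nat.card {x : X // P (f x)} * Nat.card Y ≤ Nat.card {x : X // P (f x)} * (Nat.card Z * Nat.card X) := by gcongr
    _ = (Nat.card {x : X // P (f x)} * Nat.card Z) * Nat.card X := by ring
    _ ≤ _ := by gcongr

/-! ### Scalars -/

theorem goodPow_smul {K V : Type*} [Field K] [AddCommGroup V] [Module K V] {y : V →ₗ[K] V} {A : Submodule K V} {k : ℕ}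
    {z : K} (hz : z ≠ 0) (h : GoodPow (z • y) A k) : GoodPow y A k := by
  obtain ⟨B, h1, h2, h3, h4⟩ := h
  have key : ∀ (U : Submodule K V) (a : V), (z • y) a ∈ U → y a ∈ U := by
    intro U a ha
    have := U.smul_mem z⁻¹ ha
    rwa [LinearMap.smul_apply, smul_smul, inv_mul_cancel₀ hz, one_smul] at this
  refine ⟨B, h1, fun a ha => key A a (h2 a ha), fun b hb => key B b (h3 b hb), fun m hm1 hm2 f hf => ?_⟩
  obtain ⟨e1, e2, e3⟩ := h4 m hm1 hm2 f (by
    rw [smul_pow]
    exact hf.smul_right _)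
  refine ⟨e1, e2, fun b hb => ?_⟩
  have e4 := e3 b hb
  rw [LinearMap.smul_apply, LinearMap.smul_apply, map_smul] at e4
  exact smul_right_injective V hz e4

section

variable {F : Type} [Field F] [Fintype F] {q n : ℕ}

/-- `SU → GU` -/
def suGu (n : ℕ) (F : Type) [Field F] (q : ℕ) (x : SU n F q) : GU n F q :=
  ⟨Matrix.SpecialLinearGroup.toGL x.1, x.2⟩

omit [Fintype F] in
theorem guAct_suGu (x : SU n F q) : guAct n F q (suGu n F q x) = suAct n F q x := rfl

omit [Fintype F] in
theorem guAct_apply (y : GU n F q) : guAct n F q y = Matrix.toLin' (gm y) := rfl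

omit [Fintype F] in
theorem guAct_sc_mul (z : {c : F // c * c ^ q = 1}) (y : GU n F q) : guAct n F q (sc n z * y) = z.1 • guAct n F q y := by
  rw [guAct_apply, guAct_apply, gm_sc_mul, map_smul]

omit [Fintype F] in
theorem norm_ne_zero (z : {c : F // c * c ^ q = 1}) : z.1 ≠ 0 := by
  intro h
  have := z.2
  rw [h, zero_mul] at this
  exact zero_ne_one this

/-- the fibres of `(x, z) ↦ z x` -/
theorem fib_le (hn : 1 ≤ n) (g : GU n F q) :
    Nat.card {p : SU n F q × {c : F // c * c ^ q = 1} // sc n p.2 * suGu n F q p.1 = g} ≤ n := by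
  classical
  have hdet : ∀ p : {p : SU n F q × {c : F // c * c ^ q = 1} // sc n p.2 * suGu n F q p.1 = g},
      p.1.2.1 ^ n = (gm g).det := by
    intro p
    have h0 : (gm g).det = (gm (sc n p.1.2 * suGu n F q p.1.1)).det := by rw [p.2]
    rw [h0, gm_sc_mul, Matrix.det_smul, Fintype.card_fin]
    have h1 : (gm (suGu n F q p.1.1)).det = 1 := p.1.1.1.det_coe
    rw [h1, mul_one]
  have h1 : Nat.card {c : F // c ^ n = (gm g).det} ≤ n := by
    rw [Nat.card_eq_fintype_card, Fintype.card_subtype]
    have h2 : (Finset.univ.filter fun c : F => c ^ n = (gm g).det) ⊆ (Polynomial.nthRoots n (gm g).det).toFinset := by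
      intro c hc
      rw [Multiset.mem_toFinset, Polynomial.mem_nthRoots hn]
      exact (Finset.mem_filter.1 hc).2
    exact (Finset.card_le_card h2).trans ((Multiset.toFinset_card_le _).trans (Polynomial.card_nthRoots _ _))
  refine le_trans (Nat.card_le_card_of_injective (fun p => ⟨p.1.2.1, hdet p⟩) ?_) h1
  intro p p' hpp
  have e1 : p.1.2 = p'.1.2 := Subtype.ext (congrArg (fun t : {c : F // c ^ n = (gm g).det} => t.1) hpp)
  have e2 : suGu n F q p.1.1 = suGu n F q p'.1.1 := by
    have e3 := p.2.trans p'.2.symm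
    rw [e1] at e3
    exact mul_left_cancel e3
  have e4 : p.1.1 = p'.1.1 := by
    have e5 : gm (suGu n F q p.1.1) = gm (suGu n F q p'.1.1) := congrArg gm e2
    exact Subtype.ext (Subtype.ext e5)
  exact Subtype.ext (Prod.ext e4 e1)

theorem card_GU_le (hF : Fintype.card F = q ^ 2) :
    Nat.card (GU n F q) ≤ Nat.card {c : F // c * c ^ q = 1} * Nat.card (SU n F q) := by
  classical
  have hfin : Finite (SU n F q) := Finite.of_injective (mat : SU n F q → _) mat_injective
  -- the determinant
  let D : GU n F q → {c : F // c * c ^ q = 1} := fun g => ⟨(gm g).det, by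
    rw [← pow_succ']
    exact ClassicalGeometry.GUBasic.det_pow hF (A := gm g) (fun u v => herm_gm g u v)⟩
  have _ := Fintype.ofFinite (GU n F q)
  rw [Nat.card_eq_fintype_card, Nat.card_eq_fintype_card, mul_comm, ← Finset.card_univ, ← Finset.card_univ]
  refine Finset.card_le_mul_card_image_of_maps_to (f := D) (fun _ _ => Finset.mem_univ _) _ fun c _ => ?_
  rw [← Fintype.card_subtype, ← Nat.card_eq_fintype_card]
  by_cases hne : Nonempty {g : GU n F q // D g = c}
  · obtain ⟨g0, hg0⟩ := hne
    refine Nat.card_le_card_of_injective (fun g : {g : GU n F q // D g = c} =>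
      (mkSU (gm (g.1 * g0⁻¹)) (by
        have h1 : (gm g.1).det = (gm g0).det := congrArg Subtype.val (g.2.trans hg0.symm)
        rw [gm_mul, det_mul, h1, ← det_mul, gm_mul_inv, det_one]) (fun u v => herm_gm _ u v) : SU n F q)) ?_
    intro g g' hgg
    have h2 : gm (g.1 * g0⁻¹) = gm (g'.1 * g0⁻¹) := congrArg mat hgg
    exact Subtype.ext (mul_right_cancel (gm_inj h2))
  · have : IsEmpty {g : GU n F q // D g = c} := not_nonempty_iff.1 hne
    rw [Nat.card_of_isEmpty]
    exact Nat.zero_le _

/-- passage from `GU` to `SU` -/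
theorem bad_SU_le (hF : Fintype.card F = q ^ 2) (hn : 1 ≤ n) (s0 k : ℕ) :
    Nat.card {x : SU n F q // ¬ ∃ A : Submodule F (Fin n → F), finrank F A ≤ s0 ∧ GoodPow (suAct n F q x) A k} *
      Nat.card (GU n F q) ≤
    n * Nat.card {y : GU n F q // ¬ ∃ A : Submodule F (Fin n → F), finrank F A ≤ s0 ∧ GoodPow (guAct n F q y) A k} *
      Nat.card (SU n F q) := by
  have hfin : Finite (SU n F q) := Finite.of_injective (mat : SU n F q → _) mat_injective
  refine index_trick (X := SU n F q) (Y := GU n F q) (Z := {c : F // c * c ^ q = 1}) (suGu n F q)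
    (fun z y => sc n z * y) n (fib_le hn)
    (fun y => ¬ ∃ A : Submodule F (Fin n → F), finrank F A ≤ s0 ∧ GoodPow (guAct n F q y) A k) ?_ (card_GU_le hF)
  rintro z x hx ⟨A, hA1, hA2⟩
  rw [guAct_sc_mul] at hA2
  exact hx ⟨A, hA1, goodPow_smul (norm_ne_zero z) hA2⟩

/-! ### Orders, degrees, class numbers -/

theorem card_SU_le : Nat.card (SU n F q) ≤ Nat.card F ^ n ^ 2 := by
  classical
  have h1 := Nat.card_le_card_of_injective (mat : SU n F q → _) mat_injective
  refine h1.trans (le_of_eq ?_)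
  rw [Nat.card_eq_fintype_card, Nat.card_eq_fintype_card]
  change Fintype.card (Fin n → Fin n → F) = _
  rw [Fintype.card_fun, Fintype.card_fun, Fintype.card_fin, ← pow_mul, sq]

theorem not_comm (hF : Fintype.card F = q ^ 2) (hn : 3 ≤ n) : ∃ a b : PSU n F q, a * b ≠ b * a := by
  by_contra hcon
  push Not at hcon
  obtain ⟨e, f, H⟩ := exists_frame (F := F) (q := q) (n := n) hF (by omega)
  have he0 : e ≠ 0 := by
    rintro rfl
    have := H.ef
    rw [herm_zero_left] at this
    exact zero_ne_one this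
  have hf0 : f ≠ 0 := by
    rintro rfl
    have := H.ef
    rw [herm_zero_right hF] at this
    exact zero_ne_one this
  have h1 := (RR_commute_iff hF hn he0 hf0 H.ee H.ff).1 fun x _ y _ => hcon x y
  rw [H.ef] at h1
  exact one_ne_zero h1

theorem bd_ge (hq : 2 ≤ q) (hn : 2 ≤ n) : q ^ (n - 1) ≤ 2 * H119.bd q n := by
  obtain ⟨m, rfl⟩ : ∃ m, n = m + 2 := ⟨n - 2, by omega⟩
  have h1 : H119.bd q (m + 2) = (q - 1) * q ^ m + H119.bd q m := rfl
  rw [h1, show m + 2 - 1 = m + 1 by omega, pow_succ]
  have h2 : q ≤ 2 * (q - 1) := by omega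
  calc q ^ m * q ≤ q ^ m * (2 * (q - 1)) := by gcongr
    _ = 2 * ((q - 1) * q ^ m) := by ring
    _ ≤ _ := by omega

theorem isIrreducible_comp {G H k V : Type*} [Group G] [Group H] [Field k] [AddCommGroup V]
    [Module k V] (ρ : Representation k G V) (f : H →* G) (hf : Function.Surjective f)
    (h : ρ.IsIrreducible) : Representation.IsIrreducible (ρ.comp f : Representation k H V) := by
  have := h
  let e : Subrepresentation ρ ≃o Subrepresentation (ρ.comp f : Representation k H V) :=
    { toFun := fun W => ⟨W.toSubmodule, fun g v hv => W.apply_mem_toSubmodule (f g) hv⟩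
      invFun := fun W => ⟨W.toSubmodule, fun g v hv => by
        obtain ⟨x, rfl⟩ := hf g
        exact W.apply_mem_toSubmodule x hv⟩
      left_inv := fun W => rfl
      right_inv := fun W => rfl
      map_rel_iff' := Iff.rfl }
  exact (OrderIso.isSimpleOrder_iff e).1 h

/-- nontrivial irreducible characters of nonabelian simple groups are not linear -/
theorem two_le_deg {T : Type*} [Group T] [IsSimpleGroup T] (hT : ∃ a b : T, a * b ≠ b * a) {k : ℕ}
    (ρ : Representation ℂ T (Fin k → ℂ)) (hρ : ρ.IsIrreducible) (h1 : ∃ g, ρ.character g ≠ 1) : 2 ≤ k := by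
  rcases k with _ | _ | k
  · exfalso
    have := hρ
    have h2 : (⊥ : Subrepresentation ρ) ≠ ⊤ := bot_ne_top
    apply h2
    apply Subrepresentation.toSubmodule_injective
    exact Subsingleton.elim _ _
  · exfalso
    have hsc : ∀ (f : (Fin 1 → ℂ) →ₗ[ℂ] (Fin 1 → ℂ)) (v : Fin 1 → ℂ), f v = (f 1 0) • v := by
      intro f v
      have e1 : v = (v 0) • (1 : Fin 1 → ℂ) := by
        ext i
        rw [Subsingleton.elim i 0]
        simp
      have e2 : f v = (v 0) • f 1 := by
        conv_lhs => rw [e1]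
        rw [map_smul]
      rw [e2]
      ext i
      rw [Subsingleton.elim i 0, Pi.smul_apply, Pi.smul_apply, smul_eq_mul, smul_eq_mul, mul_comm]
    obtain ⟨a, b, hab⟩ := hT
    have hN : (MonoidHom.ker ρ).Normal := inferInstance
    rcases hN.eq_bot_or_eq_top with h2 | h2
    · apply hab
      have hinj : Function.Injective ρ := (MonoidHom.ker_eq_bot_iff _).1 h2
      apply hinj
      rw [map_mul, map_mul]
      refine LinearMap.ext fun v => ?_
      have hcomp : ∀ (f g : (Fin 1 → ℂ) →ₗ[ℂ] (Fin 1 → ℂ)) (v : Fin 1 → ℂ), f (g v) = (f 1 0 * g 1 0) • v := by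
        intro f g v
        rw [hsc f (g v), hsc g v, smul_smul]
      exact (hcomp (ρ a) (ρ b) v).trans ((congrArg (fun t : ℂ => t • v) (mul_comm _ _)).trans (hcomp (ρ b) (ρ a) v).symm)
    · obtain ⟨g, hg⟩ := h1
      apply hg
      have h3 : ρ g = 1 := by
        have : g ∈ MonoidHom.ker ρ := by rw [h2]; trivial
        exact this
      rw [Representation.character, h3]
      simp
  · omega

/-- the degrees -/
theorem deg_le (hF : Fintype.card F = q ^ 2) (hn : 3 ≤ n) (hex : ¬ (n = 3 ∧ q = 2)) {T : Type} [Group T]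
    [IsSimpleGroup T] (e : T ≃* PSU n F q) (χ : T → ℂ) (hχ : IsIrrCharacter T χ) (h1 : ∃ g, χ g ≠ 1) :
    (q : ℝ) ^ (n - 1) / 2 ≤ (χ 1).re := by
  obtain ⟨k, ρ, hρ, rfl⟩ := hχ
  let π : SU n F q →* T := e.symm.toMonoidHom.comp (QuotientGroup.mk' (Subgroup.center (SU n F q)))
  have hπ : Function.Surjective π := e.symm.surjective.comp (QuotientGroup.mk'_surjective _)
  let ρ' : Representation ℂ (SU n F q) (Fin k → ℂ) := ρ.comp π
  have hρ' : ρ'.IsIrreducible := isIrreducible_comp ρ π hπ hρ
  have hT : ∃ a b : T, a * b ≠ b * a := by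
    obtain ⟨a, b, hab⟩ := not_comm (n := n) hF hn
    refine ⟨e.symm a, e.symm b, fun h => hab ?_⟩
    rw [← map_mul, ← map_mul] at h
    exact e.symm.injective h
  have hk2 : 2 ≤ k := two_le_deg hT ρ hρ h1
  have h2 := H119.SUBound.bound hF hn hex ρ' hρ' (by rw [Module.finrank_fin_fun]; exact hk2)
  rw [Module.finrank_fin_fun] at h2
  have h3 := bd_ge (two_le hF) (show 2 ≤ n by omega)
  have h4 : q ^ (n - 1) ≤ 2 * k := h3.trans (by omega)
  have h5 : (ρ.character 1).re = k := by
    rw [Representation.character, map_one]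
    simp
  rw [h5, div_le_iff₀ (by norm_num)]
  have : ((q ^ (n - 1) : ℕ) : ℝ) ≤ ((2 * k : ℕ) : ℝ) := by exact_mod_cast h4
  push_cast at this
  linarith

end

end Cfsg.Agent.H107.Rg
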