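import Mathlib
import Cfsg.Agent.H107.Rg.Psu
import Cfsg.Agent.H835.Rg.Reg

/-!
# S5714 C12: `FamP` for the unitary groups (helper107)

`famP_psu_of` : from `core`, `small_le`, `badN_le`, `el_gu`, `el_su`.
-/

set_option autoImplicit false

namespace Cfsg.Agent.H107.Rg

open Cfsg Cfsg.Agent.OrdDiv Cfsg.Agent.H436 Cfsg.Agent.H141.Rg Module Matrix Polynomial
open Cfsg.Agent.LieClassical.HermBasic Cfsg.Agent.LieClassical.HermSiegel
open Cfsg.Agent.ClassicalGeometry.PSUAutCount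

/-- the statement `el_gu` -/
def ElGu : Prop := ∀ (n q : ℕ) (F : Type) [Field F] [Finite F] (_ : Nat.card F = q ^ 2) (σ : F →+* F)
  (_ : ∀ x, σ x = x ^ q), EL σ (guAct n F q) 1 (fun _ => 1)

/-- the statement `el_su` -/
def ElSu : Prop := ∀ (n q : ℕ) (F : Type) [Field F] [Finite F] (_ : Nat.card F = q ^ 2) (σ : F →+* F)
  (_ : ∀ x, σ x = x ^ q), EL σ (suAct n F q) 1 (fun D => if 2 * D < n then 1 else Nat.card F)

section

variable {F : Type} [Field F] [Fintype F] {q n : ℕ}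

omit [Fintype F] in
theorem suAct_injective : Function.Injective (suAct n F q) := by
  intro x y h
  apply mat_injective
  have h1 : Matrix.toLin' (mat x) = Matrix.toLin' (mat y) := h
  exact Matrix.toLin'.injective h1

/-- the projection -/
def prT {T : Type} [Group T] (e : T ≃* PSU n F q) : SU n F q →* T :=
  e.symm.toMonoidHom.comp (QuotientGroup.mk' (Subgroup.center (SU n F q)))

theorem dat (hF : Fintype.card F = q ^ 2) (hn : 3 ≤ n) (hex : ¬ (n = 3 ∧ q = 2)) {T : Type} [Group T]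
    [IsSimpleGroup T] (e : T ≃* PSU n F q) :
    H835.Rg.Dat F (Fin n → F) (SU n F q) T (suAct n F q) (prT e) ((q : ℝ) ^ (n - 1) / 2) where
  surj := e.symm.surjective.comp (QuotientGroup.mk'_surjective _)
  ker := by
    intro x hx
    have h1 : e.symm (QuotientGroup.mk' (Subgroup.center (SU n F q)) x) = 1 := hx
    rw [MulEquiv.map_eq_one_iff] at h1
    exact (QuotientGroup.eq_one_iff x).1 h1
  inj := suAct_injective
  d0 := by positivity
  deg := deg_le hF hn hex e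

theorem classes_le (hF : Fintype.card F = q ^ 2) (hn : 2 ≤ n) :
    (Nat.card (ConjClasses (SU n F q)) : ℝ) ≤ 9 * (q : ℝ) ^ (n - 1) := by
  have h1 := (S2481.result n q hn hF).2
  have h2 : ((100 * Nat.card (ConjClasses (SU n F q)) : ℕ) : ℝ) ≤ ((826 * q ^ (n - 1) : ℕ) : ℝ) := by exact_mod_cast h1
  push_cast at h2
  have h3 : (0 : ℝ) ≤ (q : ℝ) ^ (n - 1) := by positivity
  linarith

theorem num_unb' (hF : Fintype.card F = q ^ 2) (hn : 3 ≤ n) :
    (Nat.card F : ℝ) ^ ((finrank F (Fin n → F) : ℝ) / 4) * Nat.card (ConjClasses (SU n F q)) ≤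
      36 * ((q : ℝ) ^ (n - 1) / 2) ^ 2 := by
  have hq : (2 : ℝ) ≤ q := by exact_mod_cast two_le hF
  have hq0 : (0 : ℝ) < q := by linarith
  have h1 := classes_le (n := n) hF (by omega)
  have h2 : (Nat.card F : ℝ) = (q : ℝ) ^ (2 : ℝ) := by
    rw [Nat.card_eq_fintype_card, hF]
    push_cast
    exact (Real.rpow_natCast _ 2).symm
  rw [Module.finrank_fin_fun, h2, ← Real.rpow_mul hq0.le]
  obtain ⟨m, rfl⟩ : ∃ m, n = m + 1 := ⟨n - 1, by omega⟩
  rw [Nat.add_sub_cancel] at h1 ⊢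
  have h3 : (q : ℝ) ^ (2 * (((m + 1 : ℕ) : ℝ) / 4)) ≤ (q : ℝ) ^ m := by
    rw [← Real.rpow_natCast (q : ℝ) m]
    refine Real.rpow_le_rpow_of_exponent_le (by linarith) ?_
    push_cast
    have : (1 : ℝ) ≤ m := by
      have : 1 ≤ m := by omega
      exact_mod_cast this
    linarith
  calc (q : ℝ) ^ (2 * (((m + 1 : ℕ) : ℝ) / 4)) * Nat.card (ConjClasses (SU (m + 1) F q))
      ≤ (q : ℝ) ^ m * (9 * (q : ℝ) ^ m) := by gcongr
    _ = _ := by ring

theorem num_bdd' (hF : Fintype.card F = q ^ 2) (hn : 3 ≤ n) :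
    (Nat.card F : ℝ) ^ (0 ^ 2) * ((Nat.card F : ℝ) ^ ((1 : ℝ) / 16) * Nat.card (ConjClasses (SU n F q))) ≤
      36 * ((q : ℝ) ^ (n - 1) / 2) ^ 2 := by
  refine le_trans ?_ (num_unb' hF hn)
  have hF1 : (1 : ℝ) ≤ Nat.card F := by
    have : 1 ≤ Nat.card F := Nat.card_pos
    exact_mod_cast this
  rw [zero_pow two_ne_zero, pow_zero, one_mul]
  have h1 : (Nat.card F : ℝ) ^ ((1 : ℝ) / 16) ≤ (Nat.card F : ℝ) ^ ((finrank F (Fin n → F) : ℝ) / 4) := by
    refine Real.rpow_le_rpow_of_exponent_le hF1 ?_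
    rw [Module.finrank_fin_fun]
    have : (3 : ℝ) ≤ n := by exact_mod_cast hn
    linarith
  gcongr

/-- no small polynomials of degree `< 1` -/
theorem smallP_one {K V : Type*} [Field K] [AddCommGroup V] [Module K V] (y : V →ₗ[K] V) :
    smallP y (Sml 1 (1 : K[X])) = ⊥ := by
  have h : (Sml 1 (1 : K[X])) = ∅ := by
    rw [Set.eq_empty_iff_forall_notMem]
    rintro f ⟨⟨-, h2, -⟩, h3 | h3⟩
    · have := h2.natDegree_pos
      omega
    · exact h2.not_isUnit (isUnit_of_dvd_one h3)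
  unfold smallP
  rw [h]
  simp

/-- the bad elements of `SU` in bounded rank -/
theorem bad_bdd {A : ℝ} (hA : 0 < A) (hcore : ∀ (K V : Type) [Field K] [Finite K] [AddCommGroup V] [Module K V] [Finite V] (X : Type) [Group X]
    [Finite X] (σ : K →+* K), (∀ x, σ (σ x) = x) → ∀ (τ : X →* (V →ₗ[K] V)) (s : K[X]), (s = 1 ∨ s = Polynomial.X ^ 2 - 1) →
    ∀ (c : ℕ → ℝ), (∀ D, 1 ≤ c D) → EL σ τ s c → ∀ (k L : ℕ) (M : ℝ), 0 ≤ M → 1 ≤ k → 1 ≤ L →
    (∀ D, L ≤ D → D ≤ finrank K V → c D * (Nat.card K : ℝ) ^ (-(D : ℝ) / 16) ≤ M) →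
    (Nat.card {x : X // ¬ GoodPow (τ x) (smallP (τ x) (Sml L s)) k} : ℝ) ≤
      A * k ^ 3 * ((finrank K V : ℝ) + 1) ^ 3 * M * Nat.card X) (hgu : ElGu) (hF : Fintype.card F = q ^ 2) (hn : 3 ≤ n)
    (k : ℕ) :
    (Nat.card {x : SU n F q // ¬ ∃ A : Submodule F (Fin n → F), finrank F A ≤ 0 ∧ GoodPow (suAct n F q x) A (k + 1)} : ℝ) ≤
      (n * (A * ((n : ℝ) + 1) ^ 3)) * ((k : ℝ) + 1) ^ 3 * (Nat.card F : ℝ) ^ (-(1 : ℝ) / 16) * Nat.card (SU n F q) := by
  have hF' : Nat.card F = q ^ 2 := by rw [Nat.card_eq_fintype_card, hF]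
  have hF1 : (1 : ℝ) ≤ Nat.card F := by
    have : 1 ≤ Nat.card F := Nat.card_pos
    exact_mod_cast this
  have h1 := hcore F (Fin n → F) (GU n F q) (conj hF : F ≃+* F) (fun x => by
    change (x ^ q) ^ q = x
    exact pow_q_pow_q hF x) (guAct n F q) 1 (Or.inl rfl) (fun _ => 1) (fun _ => le_rfl)
    (hgu n q F hF' (conj hF : F ≃+* F) (fun x => rfl)) (k + 1) 1 ((Nat.card F : ℝ) ^ (-(1 : ℝ) / 16)) (by positivity)
    (by omega) le_rfl (fun D hD _ => by
      rw [one_mul]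
      refine Real.rpow_le_rpow_of_exponent_le hF1 ?_
      have : (1 : ℝ) ≤ D := by exact_mod_cast hD
      linarith)
  rw [Module.finrank_fin_fun] at h1
  have h2 : Nat.card {y : GU n F q // ¬ ∃ A : Submodule F (Fin n → F), finrank F A ≤ 0 ∧ GoodPow (guAct n F q y) A (k + 1)} ≤
      Nat.card {x : GU n F q // ¬ GoodPow (guAct n F q x) (smallP (guAct n F q x) (Sml 1 1)) (k + 1)} := by
    refine Nat.card_le_card_of_injective (fun y => ⟨y.1, fun hy => y.2 ⟨_, ?_, hy⟩⟩)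
      fun a b hab => Subtype.ext (congrArg (fun t => t.1) hab)
    rw [smallP_one, finrank_bot]
  have h3 := bad_SU_le (F := F) (q := q) (n := n) hF (by omega) 0 (k + 1)
  have hGU : (0 : ℝ) < Nat.card (GU n F q) := by exact_mod_cast Nat.card_pos
  have h4 : (Nat.card {x : SU n F q // ¬ ∃ A : Submodule F (Fin n → F), finrank F A ≤ 0 ∧
      GoodPow (suAct n F q x) A (k + 1)} : ℝ) * Nat.card (GU n F q) ≤ n * Nat.card {y : GU n F q //
      ¬ ∃ A : Submodule F (Fin n → F), finrank F A ≤ 0 ∧ GoodPow (guAct n F q y) A (k + 1)} * Nat.card (SU n F q) := by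
    exact_mod_cast h3
  have h5 : (Nat.card {y : GU n F q // ¬ ∃ A : Submodule F (Fin n → F), finrank F A ≤ 0 ∧
      GoodPow (guAct n F q y) A (k + 1)} : ℝ) ≤ A * ((k + 1 : ℕ) : ℝ) ^ 3 * ((n : ℝ) + 1) ^ 3 *
      (Nat.card F : ℝ) ^ (-(1 : ℝ) / 16) * Nat.card (GU n F q) := by
    refine le_trans ?_ h1
    exact_mod_cast h2
  have h6 : (0 : ℝ) ≤ n := by positivity
  have h7 : (0 : ℝ) ≤ Nat.card (SU n F q) := by positivity
  refine le_of_mul_le_mul_right (a := (Nat.card (GU n F q) : ℝ)) ?_ hGU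
  refine h4.trans ?_
  calc (n : ℝ) * Nat.card {y : GU n F q //
      ¬ ∃ A : Submodule F (Fin n → F), finrank F A ≤ 0 ∧ GoodPow (guAct n F q y) A (k + 1)} * Nat.card (SU n F q)
      ≤ n * (A * ((k + 1 : ℕ) : ℝ) ^ 3 * ((n : ℝ) + 1) ^ 3 * (Nat.card F : ℝ) ^ (-(1 : ℝ) / 16) * Nat.card (GU n F q)) *
        Nat.card (SU n F q) := by gcongr
    _ = _ := by push_cast; ring

end

/-- **The row `PSU` of S5714 (`FamP`).** -/
theorem famP_psu_of (hc : H835.Rg.CoreSt) (hs : H835.Rg.SmallSt) (hb : H835.Rg.BadSt) (hgu : ElGu) (hsu : ElSu) :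
    FamP (fun g => ∃ n q, g = .psu n q) := by
  refine H835.Rg.famP_of (fun T _ n Q => IsSimpleGroup T → ∃ (F : Type) (_ : Field F) (_ : Fintype F) (q : ℕ),
    Fintype.card F = q ^ 2 ∧ 3 ≤ n ∧ ¬ (n = 3 ∧ q = 2) ∧ Q = Nat.card F ∧ Nonempty (T ≃* PSU n F q)) ?_ ?_ ?_
  · rintro g T _ _ _ hT ⟨n, q, rfl⟩
    obtain ⟨F, iF, iF', hF, ⟨e⟩⟩ := hT.real
    obtain ⟨hn, hex, -⟩ := hT.cond
    refine ⟨n, Nat.card F, fun _ => ⟨F, iF, iF', q, hF, hn, hex, rfl, ⟨e⟩⟩, ?_⟩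
    have h1 : Nat.card T ≤ Nat.card (SU n F q) :=
      Nat.card_le_card_of_surjective _ (dat hF hn hex e).surj
    exact h1.trans card_SU_le
  · intro a ε hε
    obtain ⟨N, hN⟩ := H835.Rg.unb hc hs hb a (C := 36) (c1 := 1) hε (by norm_num) le_rfl
    refine ⟨N, fun T _ _ _ n Q hR hn' => ?_⟩
    obtain ⟨F, iF, iF', q, hF, hn, hex, rfl, ⟨e⟩⟩ := hR inferInstance
    have hF' : Nat.card F = q ^ 2 := by rw [Nat.card_eq_fintype_card, hF]
    have hF1 : (1 : ℝ) ≤ Nat.card F := by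
      have : 1 ≤ Nat.card F := Nat.card_pos
      exact_mod_cast this
    refine hN F (Fin n → F) (SU n F q) T (suAct n F q) (prT e) ((q : ℝ) ^ (n - 1) / 2) (conj hF : F ≃+* F) 1
      (fun D => if 2 * D < n then 1 else Nat.card F) (dat hF hn hex e) (fun x => pow_q_pow_q hF x) (Or.inl rfl)
      ?_ ?_ ?_ (hsu n q F hF' (conj hF : F ≃+* F) (fun x => rfl)) (fun h => absurd rfl h) (num_unb' hF hn)
      (by rw [Module.finrank_fin_fun]; exact hn')
    · intro D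
      split_ifs
      · exact le_rfl
      · exact hF1
    · intro D hD
      rw [Module.finrank_fin_fun] at hD
      rw [if_pos hD]
    · intro D
      split_ifs
      · rw [one_mul]; exact hF1
      · rw [one_mul]
  · intro a N ε hε
    obtain ⟨A, hA, hcore⟩ := hc
    obtain ⟨Q0, hQ0⟩ := H835.Rg.bdd hb a N 0 (C := 36) (B := N * (A * ((N : ℝ) + 1) ^ 3)) hε (by norm_num) (by positivity)
    refine ⟨Q0, fun T _ _ _ n Q hR hn' hQ => ?_⟩
    obtain ⟨F, iF, iF', q, hF, hn, hex, rfl, ⟨e⟩⟩ := hR inferInstance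
    refine hQ0 F (Fin n → F) (SU n F q) T (suAct n F q) (prT e) ((q : ℝ) ^ (n - 1) / 2) (dat hF hn hex e)
      (by rw [Module.finrank_fin_fun]; exact hn') ?_ (num_bdd' hF hn) hQ
    intro k
    refine (bad_bdd hA hcore hgu hF hn k).trans ?_
    have : (n : ℝ) ≤ N := by exact_mod_cast hn'
    gcongr

end Cfsg.Agent.H107.Rg
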