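import Mathlib
import Cfsg.Agent.H107.Rg.PsuFam
import Cfsg.Agent.H120.Rg.Gu
import Cfsg.Agent.H342.Rg.Cent

/-!
# S5714 C12: the row `PSU`, with `el_gu`, `el_su` (helper120) and `badN_le` (helper342) inserted (helper107)
-/

set_option autoImplicit false

namespace Cfsg.Agent.H107.Rg

open Cfsg Cfsg.Agent.OrdDiv Cfsg.Agent.H436 Cfsg.Agent.H141.Rg

/-- `FamP` for the unitary groups, from `core` and `small_le` -/
theorem famP_psu' (hc : H835.Rg.CoreSt) (hs : H835.Rg.SmallSt) : FamP (fun g => ∃ n q, g = .psu n q) :=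
  famP_psu_of hc hs (fun π h1 h2 _ h3 _ _ _ _ _ h4 h5 h6 h7 h8 => H342.Rg.badN_le π h1 h2 h3 h4 h5 h6 h7 h8)
    (fun n q F _ _ hF σ hσ => H120.Rg.el_gu n q F hF σ hσ) (fun n q F _ _ hF σ hσ => H120.Rg.el_su n q F hF σ hσ)

end Cfsg.Agent.H107.Rg
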